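import Groth.Agent.FibAssLib.Fibre
import Groth.Agent.PureColimLib.Flat
import Groth.Agent.S6284

/-!
# Pure modules with finite fibres have finite support
-/

set_option autoImplicit false
set_option linter.style.haveILetI false
set_option backward.isDefEq.respectTransparency false
set_option backward.isDefEq.respectTransparency.types false
set_option maxHeartbeats 2000000
set_option synthInstance.maxHeartbeats 100000

universe u

open TensorProduct

noncomputable section

namespace Groth.Agent.PureFinLib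

attribute [local instance] Algebra.TensorProduct.rightAlgebra

/-- The support of a fibre module at a prime over the point. -/
theorem mem_support_fiberMod {A B : Type u} [CommRing A] [CommRing B] [Algebra A B] (N : Type u) [AddCommGroup N]
    [Module B N] [Module.Finite B N] (p : Ideal A) [p.IsPrime] (q : Ideal B) [q.IsPrime] [q.LiesOver p] :
    ((⟨FlatCA.fiberIdeal p q, (FibAssLib.fiberIdeal_spec p q).1⟩ : PrimeSpectrum (p.Fiber B)) ∈
      Module.support (p.Fiber B) (FlatCA.fiberMod p B N)) ↔ (⟨q, inferInstance⟩ : PrimeSpectrum B) ∈ Module.support B N := by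
  letI := (Algebra.TensorProduct.includeRight (R := A) (A := p.ResidueField) (B := B)).toRingHom.toAlgebra
  show _ ∈ Module.support (p.Fiber B) ((p.Fiber B) ⊗[B] N) ↔ _
  rw [S6284.result (R := B) (R' := p.Fiber B) N, Set.mem_preimage]
  rw [show PrimeSpectrum.comap (algebraMap B (p.Fiber B)) ⟨FlatCA.fiberIdeal p q, (FibAssLib.fiberIdeal_spec p q).1⟩ = ⟨q, inferInstance⟩ from
    PrimeSpectrum.ext (FibAssLib.fiberIdeal_spec p q).2]

/-- A minimal point of the support in a fibre is associated. -/
theorem fiberIdeal_mem_ass {A B : Type u} [CommRing A] [CommRing B] [Algebra A B] [Algebra.FiniteType A B]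
    (N : Type u) [AddCommGroup N] [Module B N] [Module.Finite B N] [Module A N] [IsScalarTower A B N]
    (p : Ideal A) [p.IsPrime] (q : Ideal B) [q.IsPrime] [q.LiesOver p]
    (hq : (⟨q, inferInstance⟩ : PrimeSpectrum B) ∈ Module.support B N)
    (hmin : ∀ (q₂ : Ideal B) [q₂.IsPrime], q₂ ≤ q → q₂.LiesOver p →
      (⟨q₂, inferInstance⟩ : PrimeSpectrum B) ∈ Module.support B N → q₂ = q) :
    FlatCA.fiberIdeal p q ∈ associatedPrimes (p.Fiber B) (FlatCA.fiberMod p B N) := by
  obtain ⟨hQp, hQq⟩ := FibAssLib.fiberIdeal_spec p q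
  haveI := hQp
  have hs := (mem_support_fiberMod N p q).2 hq
  rw [Module.support_eq_zeroLocus, PrimeSpectrum.mem_zeroLocus, SetLike.coe_subset_coe] at hs
  obtain ⟨Q, hQ, hle⟩ := Ideal.exists_minimalPrimes_le hs
  refine Module.associatedPrimes.minimalPrimes_annihilator_subset_associatedPrimes _ _ ?_
  haveI : Q.IsPrime := hQ.1.1
  let q₂ := Q.comap (CAlgFib.ι p)
  haveI : q₂.LiesOver p := FibAssLib.comap_liesOver p Q
  have h2 : (⟨q₂, inferInstance⟩ : PrimeSpectrum B) ∈ Module.support B N := by
    refine (mem_support_fiberMod N p q₂).1 ?_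
    rw [Module.support_eq_zeroLocus, PrimeSpectrum.mem_zeroLocus, SetLike.coe_subset_coe]
    refine hQ.1.2.trans (le_of_eq ?_)
    exact (FibAssLib.eq_fiberIdeal_of_comap p rfl).symm
  have h3 : q₂ = q := hmin q₂ ((Ideal.comap_mono hle).trans hQq.le) inferInstance h2
  rw [show FlatCA.fiberIdeal p q = Q from FibAssLib.eq_fiberIdeal_of_comap p h3]
  exact hQ

/-- Finite fibres of the support make the support quasi-finite. -/
theorem quasiFinite_of_finite_support {A B : Type u} [CommRing A] [CommRing B] [Algebra A B] [Algebra.FiniteType A B]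
    (N : Type u) [AddCommGroup N] [Module B N] [Module.Finite B N]
    (hfin : ∀ (p : Ideal A) [p.IsPrime], (Module.support (p.Fiber B) (FlatCA.fiberMod p B N)).Finite) :
    Algebra.QuasiFinite A (B ⧸ Module.annihilator B N) := by
  rw [Algebra.QuasiFinite.iff_finite_comap_preimage_singleton]
  intro x
  haveI := x.2
  have hmk := PrimeSpectrum.comap_injective_of_surjective
    (Ideal.Quotient.mk (Module.annihilator B N)) Ideal.Quotient.mk_surjective
  haveI key : ∀ y : PrimeSpectrum.comap (algebraMap A (B ⧸ Module.annihilator B N)) ⁻¹' {x},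
      (PrimeSpectrum.comap (Ideal.Quotient.mk (Module.annihilator B N)) y.1).asIdeal.LiesOver x.asIdeal := fun y =>
    ⟨(congrArg PrimeSpectrum.asIdeal y.2).symm⟩
  let φ : PrimeSpectrum.comap (algebraMap A (B ⧸ Module.annihilator B N)) ⁻¹' {x} →
      Module.support (x.asIdeal.Fiber B) (FlatCA.fiberMod x.asIdeal B N) := fun y =>
    ⟨⟨_, (FibAssLib.fiberIdeal_spec x.asIdeal (PrimeSpectrum.comap (Ideal.Quotient.mk _) y.1).asIdeal).1⟩,
      (mem_support_fiberMod N x.asIdeal _).2 (by
        rw [Module.support_eq_zeroLocus, PrimeSpectrum.mem_zeroLocus, SetLike.coe_subset_coe]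
        intro b hb
        show Ideal.Quotient.mk _ b ∈ y.1.asIdeal
        rw [Ideal.Quotient.eq_zero_iff_mem.2 hb]
        exact zero_mem _)⟩
  haveI := (hfin x.asIdeal).to_subtype
  refine Set.finite_coe_iff.1 (Finite.of_injective φ fun y z h => ?_)
  refine Subtype.ext (hmk (PrimeSpectrum.ext ?_))
  have h1 : FlatCA.fiberIdeal x.asIdeal _ = FlatCA.fiberIdeal x.asIdeal _ := congrArg (fun w => w.1.asIdeal) h
  have h2 := congrArg (Ideal.comap (CAlgFib.ι x.asIdeal)) h1
  rwa [(FibAssLib.fiberIdeal_spec x.asIdeal _).2, (FibAssLib.fiberIdeal_spec x.asIdeal _).2] at h2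

/-- Zariski's main theorem in the form: a finite subalgebra over which the algebra is locally equal to it. -/
theorem exists_finite_subalgebra (A C : Type u) [CommRing A] [CommRing C] [Algebra A C] [Algebra.FiniteType A C]
    [Algebra.QuasiFinite A C] :
    ∃ (D : Subalgebra A C) (s : Set C), Module.Finite A D ∧ s ⊆ D ∧ Ideal.span s = ⊤ ∧
      ∀ r ∈ s, ∀ x : C, ∃ n : ℕ, r ^ n * x ∈ D := by
  classical
  have hq : ∀ q : PrimeSpectrum C, ∃ S' : Subalgebra A C, S'.toSubmodule.FG ∧ ∃ r : S',
      r.1 ∉ q.asIdeal ∧ Function.Bijective (Localization.awayMap S'.val.toRingHom r) := fun q =>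
    Algebra.QuasiFiniteAt.exists_fg_and_exists_notMem_and_awayMap_bijective q.asIdeal
  choose S' hfg r hr hbij using hq
  have hsp : Ideal.span (Set.range fun q => (r q).1) = ⊤ := by
    by_contra hne
    obtain ⟨m, hm, hle⟩ := Ideal.exists_le_maximal _ hne
    exact hr ⟨m, hm.isPrime⟩ (hle (Ideal.subset_span ⟨_, rfl⟩))
  obtain ⟨w, hw, hwtop⟩ := (Ideal.span_eq_top_iff_finite _).1 hsp
  choose pre hpre using fun x : (w : Set C) => hw x.2
  let t : Finset (PrimeSpectrum C) := Finset.univ.image pre
  have ht : Ideal.span ((fun q => (r q).1) '' (t : Set (PrimeSpectrum C))) = ⊤ :=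
    top_le_iff.1 (hwtop.ge.trans (Ideal.span_mono fun x hx =>
      ⟨pre ⟨x, hx⟩, Finset.mem_coe.2 (Finset.mem_image_of_mem pre (Finset.mem_univ _)), hpre ⟨x, hx⟩⟩))
  choose gen hgen using hfg
  let G : Set C := ⋃ q ∈ t, (gen q : Set C)
  have hint : ∀ (q : PrimeSpectrum C) (x : C), x ∈ S' q → IsIntegral A x := fun q x hx =>
    IsIntegral.of_mem_of_fg (S' q) ⟨gen q, hgen q⟩ x hx
  let D := Algebra.adjoin A G
  have hDfg : D.toSubmodule.FG := fg_adjoin_of_finite (t.finite_toSet.biUnion fun q _ => (gen q).finite_toSet) (fun x hx => by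
    simp only [G, Set.mem_iUnion, Finset.mem_coe] at hx
    obtain ⟨q, -, hx⟩ := hx
    exact hint q x (show x ∈ (S' q).toSubmodule from hgen q ▸ Submodule.subset_span hx))
  have hle : ∀ q ∈ t, S' q ≤ D := fun q hq x hx => by
    have h1 : x ∈ Submodule.span A (gen q : Set C) := by rw [hgen q]; exact hx
    refine Algebra.span_le_adjoin A G (Submodule.span_mono ?_ h1)
    exact fun y hy => Set.mem_biUnion hq hy
  refine ⟨D, (fun q => (r q).1) '' (t : Set _), ⟨(Submodule.fg_top _).2 hDfg⟩, ?_, ht, ?_⟩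
  · rintro _ ⟨q, hq, rfl⟩
    exact hle q hq (r q).2
  · rintro _ ⟨q, hq, rfl⟩ x
    obtain ⟨z, hz⟩ := (hbij q).2 (algebraMap C (Localization.Away (r q).1) x)
    obtain ⟨y, ⟨_, n, rfl⟩, rfl⟩ := IsLocalization.exists_mk'_eq (Submonoid.powers (r q)) z
    rw [Localization.awayMap, IsLocalization.Away.map, IsLocalization.map_mk', eq_comm, IsLocalization.eq_mk'_iff_mul_eq] at hz
    change algebraMap C (Localization.Away (r q).1) x * algebraMap C (Localization.Away (r q).1) ((r q).1 ^ n) =
      algebraMap C (Localization.Away (r q).1) y.1 at hz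
    rw [← map_mul, IsLocalization.eq_iff_exists (Submonoid.powers (r q).1)] at hz
    obtain ⟨⟨_, m, rfl⟩, hm⟩ := hz
    refine ⟨m + n, ?_⟩
    have h2 : (r q).1 ^ (m + n) * x = (r q).1 ^ m * y.1 := by
      rw [pow_add, mul_assoc, mul_comm ((r q).1 ^ n) x]
      simpa using hm
    rw [h2]
    exact hle q hq (mul_mem (pow_mem (r q).2 m) y.2)

/-- Finiteness of the algebra from the absence of a prime of the subalgebra containing all the elements. -/
theorem finite_of_span {A C : Type u} [CommRing A] [CommRing C] [Algebra A C] (D : Subalgebra A C) [Module.Finite A D]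
    (s : Set C) (hsD : s ⊆ D) (hpow : ∀ r ∈ s, ∀ x : C, ∃ n : ℕ, r ^ n * x ∈ D)
    (hspan : Ideal.span (D.val ⁻¹' s) = ⊤) : Module.Finite A C := by
  have htop : ∀ x : C, x ∈ D := by
    intro x
    choose n hn using fun r : (D.val ⁻¹' s) => hpow r.1.1 r.2 x
    have h1 := Ideal.span_range_pow_eq_top (D.val ⁻¹' s) hspan n
    have h2 : ∀ d ∈ Ideal.span (Set.range fun r : (D.val ⁻¹' s) => r.1 ^ n r), (d : C) * x ∈ D := by
      intro d hd
      induction hd using Submodule.span_induction with
      | mem y hy => obtain ⟨r, rfl⟩ := hy; exact hn r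
      | zero => simpa using D.zero_mem
      | add a b _ _ ha hb => simpa [add_mul] using D.add_mem ha hb
      | smul c a _ ha => simpa [mul_assoc] using D.mul_mem c.2 ha
    simpa using h2 1 (h1.symm ▸ Submodule.mem_top)
  exact Module.Finite.of_surjective D.val.toLinearMap fun x => ⟨⟨x, htop x⟩, rfl⟩

/-- A pure module with finite fibres has finite support. -/
theorem finite_of_isPure {A B : Type u} [CommRing A] [CommRing B] [Algebra A B] [Algebra.FiniteType A B]
    (N : Type u) [AddCommGroup N] [Module B N] [Module A N] [IsScalarTower A B N] [Module.Finite B N]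
    (hfin : ∀ (p : Ideal A) [p.IsPrime], (Module.support (p.Fiber B) (FlatCA.fiberMod p B N)).Finite)
    (hpure : FlatCA.IsPure A B N) : Module.Finite A (B ⧸ Module.annihilator B N) := by
  classical
  let I := Module.annihilator B N
  let C := B ⧸ I
  haveI : Algebra.FiniteType A C := Algebra.FiniteType.of_surjective (Ideal.Quotient.mkₐ A I) Ideal.Quotient.mk_surjective
  haveI hqf : Algebra.QuasiFinite A C := quasiFinite_of_finite_support N hfin
  obtain ⟨D, s, hD, hsD, hs, hpow⟩ := exists_finite_subalgebra A C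
  refine finite_of_span D s hsD hpow ?_
  by_contra hne
  obtain ⟨Q, hQ, hQs⟩ := Ideal.exists_le_maximal _ hne
  haveI := hQ.isPrime
  obtain ⟨Q₀, hQ₀, hQ₀Q⟩ := Ideal.exists_minimalPrimes_le (bot_le : (⊥ : Ideal D) ≤ Q)
  haveI := hQ₀.1.1
  obtain ⟨q₀, hq₀, hq₀D⟩ := Ideal.exists_comap_eq_of_mem_minimalPrimes_of_injective
    (f := D.val.toRingHom) Subtype.val_injective Q₀ hQ₀
  haveI := hq₀
  let p := Q.comap (algebraMap A D)
  haveI : Q.LiesOver p := ⟨rfl⟩
  obtain ⟨A', _, _, _, Pt, _, _, e, he, P', _, _, hP'Q, heP', hres, -, huniq⟩ :=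
    Algebra.exists_etale_isIdempotentElem_forall_liesOver_eq p Q
  -- the base changes
  let D' := A' ⊗[A] D
  let C' := A' ⊗[A] C
  let B' := A' ⊗[A] B
  let ψ : D' →ₐ[A'] C' := Algebra.TensorProduct.map (AlgHom.id A' A') D.val
  let φ : B' →ₐ[A'] C' := Algebra.TensorProduct.map (AlgHom.id A' A') (Ideal.Quotient.mkₐ A I)
  have hφ : Function.Surjective φ := by
    intro z
    induction z using TensorProduct.induction_on with
    | zero => exact ⟨0, map_zero _⟩
    | add a b ha hb =>
      obtain ⟨a', rfl⟩ := ha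
      obtain ⟨b', rfl⟩ := hb
      exact ⟨a' + b', map_add _ _ _⟩
    | tmul a c =>
      obtain ⟨b, rfl⟩ := Ideal.Quotient.mk_surjective c
      exact ⟨a ⊗ₜ b, rfl⟩
  haveI : Algebra.QuasiFinite A' C' := inferInstance
  haveI : Module.Flat D D' := Module.Flat.isBaseChange A D A' D' (Algebra.IsPushout.out : IsBaseChange D _)
  haveI : P'.LiesOver Q := ⟨hP'Q.symm⟩
  obtain ⟨Q₁, hQ₁P, hQ₁, hQ₁0⟩ := Ideal.exists_ideal_le_liesOver_of_le (R := D) (S := D') (p := Q₀) (q := Q) P' hQ₀Q
  -- a prime of `C'` over both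
  letI : Algebra D' C' := ψ.toRingHom.toAlgebra
  letI : Algebra D C := D.val.toRingHom.toAlgebra
  letI : Algebra D C' := ((algebraMap C C').comp (algebraMap D C)).toAlgebra
  haveI : IsScalarTower D C C' := .of_algebraMap_eq' rfl
  haveI : IsScalarTower D D' C' := IsScalarTower.of_algebraMap_eq (R := D) (S := D') (A := C') fun d => rfl
  haveI : IsScalarTower A D C := IsScalarTower.of_algebraMap_eq (R := A) (S := D) (A := C) fun d => rfl
  haveI : IsScalarTower A' D' C' := IsScalarTower.of_algebraMap_eq (R := A') (S := D') (A := C') fun d => (ψ.commutes d).symm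
  haveI : IsScalarTower A D C' := IsScalarTower.of_algebraMap_eq (R := A) (S := D) (A := C') fun d => by
    rw [IsScalarTower.algebraMap_apply A C C']; rfl
  haveI : IsScalarTower A D' C' := IsScalarTower.of_algebraMap_eq (R := A) (S := D') (A := C') fun d => ((ψ.restrictScalars A).commutes d).symm
  haveI : Algebra.IsPushout A D A' D' := Algebra.IsPushout.symm inferInstance
  haveI : Algebra.IsPushout A C A' C' := Algebra.IsPushout.symm inferInstance
  haveI hpo : Algebra.IsPushout D C D' C' :=
    (Algebra.IsPushout.comp_iff (R := A) (S := D) (R' := A') (S' := D') (T := C) (T' := C')).1 inferInstance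
  haveI : Algebra.IsPushout D D' C C' := hpo.symm
  haveI := hQ₁
  haveI := hQ₁0
  obtain ⟨Pc, hPc, hPcD, hPcC⟩ := PureColimLib.exists_prime_over (A' := D) (B' := C) (A := D') (B := C') Q₁ q₀
    (hQ₁0.over.symm.trans hq₀D.symm)
  haveI := hPc
  let P : Ideal B' := Pc.comap φ.toRingHom
  let t' := P.comap (algebraMap A' B')
  -- the impurity
  let N' := B' ⊗[B] N
  haveI : Algebra.IsPushout A B A' B' := Algebra.IsPushout.symm inferInstance
  have hPcA : Pc.comap (algebraMap A' C') = t' := by
    show _ = (Pc.comap φ.toRingHom).comap _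
    rw [Ideal.comap_comap]
    exact congrArg (fun f => Pc.comap f) φ.comp_algebraMap.symm
  have ht't : t' ≤ Pt := by
    rw [← hPcA, IsScalarTower.algebraMap_eq A' D' C', ← Ideal.comap_comap, hPcD, P'.over_def Pt]
    exact Ideal.comap_mono hQ₁P
  haveI : P.LiesOver t' := ⟨rfl⟩
  have hker : RingHom.ker φ.toRingHom = I.map (algebraMap B B') := by
    exact Algebra.TensorProduct.lTensor_ker (A := A') (Ideal.Quotient.mkₐ A I) Ideal.Quotient.mk_surjective |>.trans
      (by rw [show RingHom.ker (Ideal.Quotient.mkₐ A I) = I from Ideal.mk_ker]; rfl)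
  have hsupp : ∀ (q : Ideal B') [q.IsPrime], ((⟨q, inferInstance⟩ : PrimeSpectrum B') ∈ Module.support B' N') ↔
      RingHom.ker φ.toRingHom ≤ q := fun q _ => by
    rw [S6284.result (R := B) (R' := B') N, Set.mem_preimage, Module.support_eq_zeroLocus, PrimeSpectrum.mem_zeroLocus,
      SetLike.coe_subset_coe, hker, Ideal.map_le_iff_le_comap]
    rfl
  have hass : FlatCA.fiberIdeal t' P ∈ associatedPrimes (t'.Fiber B') (FlatCA.fiberMod t' B' N') := by
    refine fiberIdeal_mem_ass N' t' P ((hsupp P).2 (Ideal.comap_mono bot_le)) fun q₂ _ hle hov h2 => ?_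
    have hk := (hsupp q₂).1 h2
    haveI : (q₂.map φ.toRingHom).IsPrime := Ideal.map_isPrime_of_surjective hφ hk
    have hc : (q₂.map φ.toRingHom).comap φ.toRingHom = q₂ := by
      rw [Ideal.comap_map_of_surjective φ.toRingHom hφ, ← RingHom.ker_eq_comap_bot, sup_eq_left.2 hk]
    rw [← hc]
    refine congrArg (Ideal.comap φ.toRingHom) (Algebra.QuasiFinite.eq_of_le_of_under_eq (R := A') _ Pc ?_ ?_)
    · exact (Ideal.map_mono hle).trans Ideal.map_comap_le
    · show (q₂.map φ.toRingHom).comap (algebraMap A' C') = Pc.comap (algebraMap A' C')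
      rw [hPcA, show algebraMap A' C' = φ.toRingHom.comp (algebraMap A' B') from φ.comp_algebraMap.symm,
        ← Ideal.comap_comap, hc]
      exact hov.over.symm
  refine hpure p A' B' N' (TensorProduct.mk B B' N 1) t' Pt P ⟨inferInstance, inferInstance, hres⟩
    ⟨inferInstance, TensorProduct.isBaseChange B N B', ht't, inferInstance, inferInstance, hass, fun P'' _ hle hov => ?_⟩
  -- no prime above it lies over the point
  have hk : RingHom.ker φ.toRingHom ≤ P'' := le_trans (Ideal.comap_mono bot_le) hle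
  haveI : (P''.map φ.toRingHom).IsPrime := Ideal.map_isPrime_of_surjective hφ hk
  have hc : (P''.map φ.toRingHom).comap φ.toRingHom = P'' := by
    rw [Ideal.comap_map_of_surjective φ.toRingHom hφ, ← RingHom.ker_eq_comap_bot, sup_eq_left.2 hk]
  have hPc'' : Pc ≤ P''.map φ.toRingHom := by
    rw [← Ideal.map_comap_of_surjective φ.toRingHom hφ Pc]
    exact Ideal.map_mono hle
  let Qs := (P''.map φ.toRingHom).comap (algebraMap D' C')
  have heQ : e ∉ Qs := fun hmem => by
    have h1 : (1 - e) ∈ Q₁ := by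
      refine (Ideal.IsPrime.mem_or_mem inferInstance ?_).resolve_left (fun h => heP' (hQ₁P h))
      rw [mul_sub, mul_one, he.eq, sub_self]
      exact zero_mem _
    rw [← hPcD] at h1
    have h2 : (1 - e) + e ∈ Qs := Qs.add_mem (Ideal.comap_mono hPc'' h1) hmem
    rw [sub_add_cancel] at h2
    exact (inferInstance : Qs.IsPrime).ne_top ((Ideal.eq_top_iff_one _).2 h2)
  have hQsP : Qs = P' := huniq Qs inferInstance ⟨by
    rw [hov.over, ← hc]
    show _ = ((P''.map φ.toRingHom).comap (algebraMap D' C')).comap (algebraMap A' D')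
    rw [Ideal.under_def, Ideal.comap_comap, Ideal.comap_comap, ← IsScalarTower.algebraMap_eq A' D' C']
    exact congrArg (fun f => (P''.map φ.toRingHom).comap f) φ.comp_algebraMap⟩ heQ
  have hall : s ⊆ ((P''.map φ.toRingHom).comap (algebraMap C C') : Set C) := fun x hx => by
    have h1 : (⟨x, hsD hx⟩ : D) ∈ Q := hQs (Ideal.subset_span hx)
    rw [← hP'Q, ← hQsP, Ideal.mem_comap] at h1
    show algebraMap C C' x ∈ P''.map φ.toRingHom
    rw [show algebraMap C C' x = algebraMap D' C' (algebraMap D D' ⟨x, hsD hx⟩) by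
      rw [← IsScalarTower.algebraMap_apply D D' C', IsScalarTower.algebraMap_apply D C C']; rfl]
    exact h1
  exact (inferInstance : ((P''.map φ.toRingHom).comap (algebraMap C C')).IsPrime).ne_top
    (top_le_iff.1 (hs ▸ Ideal.span_le.2 hall))

end Groth.Agent.PureFinLib
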